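import Groth.Agent.L24.St.QcSep
import Groth.Agent.L24.St.Monotone
import Groth.Agent.L24.St.PointsUniv
import Groth.Agent.L24.St.DiagSpace
import Groth.Agent.L24.LocQ.Noetherian
import Groth.Agent.S12996

/-!
Immersions into locally Noetherian stacks.
-/

set_option autoImplicit false
set_option backward.isDefEq.respectTransparency false
set_option backward.isDefEq.respectTransparency.types false

universe u

open CategoryTheory CategoryTheory.Limits AlgebraicGeometry Opposite AlgSt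

noncomputable section

namespace Groth.L09.Stack

open Groth.L24.St

variable {S : Scheme.{u}} {𝒳 𝒴 : AlgSt.Cat S}

theorem repWith_qc_of_isIso {X Y : AlgSp.Sp S} (f : X ⟶ Y) [IsIso f] : AlgSp.RepWith @QuasiCompact f := by
  refine ⟨Functor.relativelyRepresentable.of_isIso _ f, fun a b g fst snd sq => ?_⟩
  have : IsIso ((AlgSp.yon S).map snd) := sq.isIso_snd_of_isIso
  have : IsIso snd := isIso_of_fully_faithful (AlgSp.yon S) snd
  show QuasiCompact snd.left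
  have : IsIso snd.left := inferInstanceAs (IsIso ((Over.forget S).map snd))
  infer_instance

theorem qcqs_of_isIso {X Y : AlgSp.Sp S} (f : X ⟶ Y) [IsIso f] :
    (AlgSp.IsQuasiCompactMor ⊓ AlgSp.IsQuasiSeparatedMor : MorphismProperty (AlgSp.Sp S)) f :=
  ⟨Groth.L23.isQuasiCompactMor_of_repWith (repWith_qc_of_isIso f), repWith_qc_of_isIso (pullback.diagonal f)⟩

theorem isQuasiSeparatedMor_of_isImm (h𝒳 : IsAlgStack Scheme.fppfPrecoverage 𝒳)
    (h𝒴 : IsAlgStack Scheme.fppfPrecoverage 𝒴) {j : 𝒳 ⥤ᵇ 𝒴} (hj : IsImm j) : IsQuasiSeparatedMor j :=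
  have := full_of_isMono h𝒳.isStack.1 h𝒴.isStack.1 j (isMono_of_isImm hj)
  have := faithful_of_rep1 h𝒳.isStack.1 h𝒴.isStack.1 j (repWith_rep1 hj)
  repWith_of_isEquivOver (fun _ _ _ _ a _ => qcqs_of_isIso a) (diag_isEquivOver_of_fullFaithful j)

theorem quasiCompact_of_isImmersion {X Y : Scheme.{u}} (f : X ⟶ Y) [IsImmersion f] [IsLocallyNoetherian Y] :
    QuasiCompact f := by
  rw [← f.liftCoborder_ι]
  infer_instance

theorem repWith_qcMor_of_isImm (h𝒳 : IsAlgStack Scheme.fppfPrecoverage 𝒳)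
    (h𝒴 : IsAlgStack Scheme.fppfPrecoverage 𝒴) (hN : SmoothLocally (fun T => IsLocallyNoetherian T) 𝒴)
    {j : 𝒳 ⥤ᵇ 𝒴} (hj : IsImm j) : RepByAlgSpWith AlgSp.IsQuasiCompactMor j := by
  obtain ⟨V, z, hz, hzs⟩ := h𝒴.atlas
  have : IsLocallyNoetherian V.left := hN V z hz
  have hz₁ : RepByAlgSpWith (AlgSp.LocP @Flat) z := repWith_mono (fun F U _ a h => fun U' W α b k hα hb w => by
    have := h α b k hα hb w; infer_instance) hz
  have hz₂ : RepByAlgSpWith (AlgSp.LocP @LocallyOfFinitePresentation) z := repWith_mono (fun F U _ a h => fun U' W α b k hα hb w => by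
    have := h α b k hα hb w; infer_instance) hz
  refine (repWith_iff_fpFst_cover pBase_qcMor Groth.L24.Alg.isLocalOnBase_fppf_qcMor h𝒳.isStack.1 h𝒴.isStack.1
    (overCat_isFibGrpd V) (repWith_rep1 hj) hz₁ hz₂ hzs).2 ?_
  obtain ⟨F, e, he, ha⟩ := hj V z
  let a := spMapOfOver (BasedFunctor.comp e (FibCat.fpFst z j))
  let jZ := ha.1.snd (𝟙 ((AlgSp.yon S).obj V))
  let pZ := ha.1.fst (𝟙 ((AlgSp.yon S).obj V))
  have sq := ha.1.isPullback (𝟙 ((AlgSp.yon S).obj V))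
  have : IsImmersion jZ.left := Groth.L23.repWith_prop ha sq
  have : IsIso pZ := sq.isIso_fst_of_isIso
  have hq : AlgSp.RepWith @QuasiCompact a := by
    have e' : a = inv pZ ≫ (AlgSp.yon S).map jZ := by
      rw [IsIso.eq_inv_comp]
      exact sq.w.trans (Category.comp_id _)
    rw [e']
    exact Groth.L23.repWith_comp (repWith_qc_of_isIso _) ((AlgSp.repWith_yon_map_iff _ _).2 (quasiCompact_of_isImmersion jZ.left))
  exact (repWith_precomp he _).1 ((repWith_congr (overFactor _)).2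
    ((repWith_postcomp (toOverCat_isEquivOver V) _).2
      (repWith_ofSpMap_of_prop pBase_qcMor F.property (AlgSp.IsAlgSpace.yon_obj V) a (Groth.L23.isQuasiCompactMor_of_repWith hq))))

theorem noetherian_of_isImm (h𝒳 : IsAlgStack Scheme.fppfPrecoverage 𝒳) (h𝒴 : IsAlgStack Scheme.fppfPrecoverage 𝒴)
    (hN : SmoothLocally (fun T => IsLocallyNoetherian T) 𝒴) {j : 𝒳 ⥤ᵇ 𝒴} (hj : IsImm j) :
    SmoothLocally (fun T => IsLocallyNoetherian T) 𝒳 ∧ AlgSt.IsQuasiCompactMor Scheme.fppfPrecoverage j :=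
  ⟨Groth.L24.LocQ.smoothLocally_noetherian_of_lft h𝒳 h𝒴 (Groth.Agent.S12996.result S 𝒳 𝒴 h𝒳 h𝒴 j hj) hN,
    (repWith_qcMor_iff h𝒳.isStack.1 h𝒴.isStack.1 (repWith_rep1 hj)).1 (repWith_qcMor_of_isImm h𝒳 h𝒴 hN hj)⟩

theorem isQuasiCompact_of_qcMor {j : 𝒳 ⥤ᵇ 𝒴} (h𝒴 : IsAlgStack Scheme.fppfPrecoverage 𝒴)
    (hj : AlgSt.IsQuasiCompactMor Scheme.fppfPrecoverage j) (h : IsQuasiCompact 𝒴) : IsQuasiCompact 𝒳 :=
  isQuasiCompact_of_isEquivOver (Θ := FibCat.fpSnd (BasedFunctor.id 𝒴) j)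
    (isEquivOver_comp fpSwap_isEquivOver (fpFst_isEquivOver (F := j) (isEquivOver_id 𝒴)))
    (hj 𝒴 h𝒴 h (BasedFunctor.id 𝒴))

theorem isQuasiSeparatedOver_of_isImm (h𝒳 : IsAlgStack Scheme.fppfPrecoverage 𝒳)
    (h𝒴 : IsAlgStack Scheme.fppfPrecoverage 𝒴) {j : 𝒳 ⥤ᵇ 𝒴} (hj : IsImm j) (h : IsQuasiSeparatedOver 𝒴) :
    IsQuasiSeparatedOver 𝒳 :=
  (diag_repWith_square (f := FibCat.toSelf 𝒳) (f' := BasedFunctor.comp j (FibCat.toSelf 𝒴))
    (isEquivOver_id _) (isEquivOver_id _) (toSelfIso j)).2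
    (isQuasiSeparatedMor_comp h𝒳.isStack.1 h𝒴.isStack.1 (isQuasiSeparatedMor_of_isImm h𝒳 h𝒴 hj) h)

end Groth.L09.Stack
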