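import Groth.Agent.L24.St.OverSpace
import Groth.Agent.L24.St.LocPStack
import Groth.Agent.L24.St.LocPFppf
import Groth.Agent.L24.St.FlatCover
import Groth.Agent.L24.St.FpAlg

/-!
A property local on the source descends along a covering functor.
-/

set_option autoImplicit false
set_option backward.isDefEq.respectTransparency false
set_option backward.isDefEq.respectTransparency.types false

universe u

open CategoryTheory CategoryTheory.Limits AlgebraicGeometry Opposite AlgSt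

noncomputable section

namespace Groth.L09.Stack

open Groth.L24.St

variable {S : Scheme.{u}} {𝒳 𝒴 𝒵 : AlgSt.Cat S} {P : MorphismProperty (AlgSp.Sp S)}

/-- If a composite has a property local on the source, so does the second functor. -/
theorem repWith_of_comp_left {τ : AlgSp.CovNotion S} (hB : PBase P) (hP' : AlgSp.IsLocalOnSource τ P)
    {Q : MorphismProperty (AlgSp.Sp S)}
    (hQ : ∀ {V F : AlgSp.Sp S}, AlgSp.IsAlgSpace V → AlgSp.IsAlgSpace F → ∀ a : V ⟶ F, Q a →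
      τ (ι := PUnit.{u + 1}) (fun _ => V) (fun _ => a))
    {x : 𝒳 ⥤ᵇ 𝒴} {y : 𝒴 ⥤ᵇ 𝒵}
    (hx : ∀ ⦃G : AlgSp.Sp S⦄, AlgSp.IsAlgSpace G → ∀ z : AlgSt.ofSp G ⥤ᵇ 𝒴,
      ∃ (V : AlgSp.Sp S) (a : V ⟶ G) (e : AlgSt.ofSp V ⥤ᵇ FibCat.fp z x),
        AlgSp.IsAlgSpace V ∧ FibCat.IsEquivOver e ∧
          Nonempty (BasedFunctor.comp e (FibCat.fpFst z x) ≅ AlgSt.ofSpMap a) ∧ Q a)
    (hy : RepByAlgSp1 y) (h : RepByAlgSpWith P (BasedFunctor.comp x y)) : RepByAlgSpWith P y := by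
  intro U z
  obtain ⟨G, e, he, -⟩ := (rep1_iff y).1 hy U z
  refine ⟨G, e, he, ?_⟩
  obtain ⟨V, a, e', hV, he', ⟨i⟩, ha⟩ := hx G.property (BasedFunctor.comp e (FibCat.fpSnd z y))
  let Θ : FibCat.fp (BasedFunctor.comp e (FibCat.fpSnd z y)) x ⥤ᵇ FibCat.fp (FibCat.fpSnd z y) x :=
    fpMap e (BasedFunctor.id _) (Iso.refl _) (Iso.refl _)
  have hw := Wit.prop_of_equiv (fun F F' hF hF' i hi b hb => hB.iso_left hF hF' (AlgSp.IsAlgSpace.yon_obj U) i hb)
    (h U z) hV (BasedFunctor.comp e' (BasedFunctor.comp Θ (fpComp z x y)))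
    (isEquivOver_comp he' (isEquivOver_comp (fpMap_isEquivOver he (isEquivOver_id _) _ _)
      (fpComp_isEquivOver z x y)))
  have key : AlgSt.spMapOfOver (BasedFunctor.comp (BasedFunctor.comp e' (BasedFunctor.comp Θ (fpComp z x y)))
      (FibCat.fpFst z (BasedFunctor.comp x y))) =
      a ≫ AlgSt.spMapOfOver (BasedFunctor.comp e (FibCat.fpFst z y)) := by
    rw [← spMapOfOver_ofSpMap_comp]
    exact spMapOfOver_congr (whiskerR i (BasedFunctor.comp e (FibCat.fpFst z y)))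
  rw [key] at hw
  exact (hP' (fun _ : PUnit.{u + 1} => V) (fun _ => a) G.property (fun _ => hV) (hQ hV G.property a ha)
    (AlgSt.spMapOfOver (BasedFunctor.comp e (FibCat.fpFst z y))) (AlgSp.IsAlgSpace.yon_obj U)).2 fun _ => hw

theorem pBase_surjective : PBase (AlgSp.IsSurjectiveMor : MorphismProperty (AlgSp.Sp S)) := by
  intro X₁ Y₁ X₂ Y₂ h1 h2 h3 h4 a b a' b' sq ha w
  obtain ⟨v, hv⟩ := ha (AlgSp.Points.map b w)
  obtain ⟨p, hp, -⟩ := Groth.L23.exists_of_isPullback sq.flip w v hv.symm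
  exact ⟨p, hp⟩

theorem surjective_of_repWith_ofSpMap {V G : AlgSp.Sp S} (a : V ⟶ G)
    (h : RepByAlgSpWith AlgSp.IsSurjectiveMor (AlgSt.ofSpMap a)) : AlgSp.IsSurjectiveMor a := fun p => by
  obtain ⟨q, hq⟩ := isSurjective_of_repWith (ofSp_isFibGrpd V) (ofSp_isFibGrpd G) h (ptMap G p)
  obtain ⟨v, rfl⟩ := (ptMap_bijective V).2 q
  rw [ptMap_map] at hq
  exact ⟨v, (ptMap_bijective G).1 hq⟩

/-- Base change of a functor with a property of schemes and surjective to algebraic spaces. -/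
theorem exists_space_locP {R : MorphismProperty Scheme.{u}} (hR : Groth.L23.EtLocal R)
    (h𝒳 : FibCat.IsFibGrpd 𝒳.p) (h𝒴 : FibCat.IsFibGrpd 𝒴.p) {x : 𝒳 ⥤ᵇ 𝒴}
    (hx : RepByAlgSpWith (AlgSp.LocP R) x) (hs : RepByAlgSpWith AlgSp.IsSurjectiveMor x)
    {G : AlgSp.Sp S} (hG : AlgSp.IsAlgSpace G) (z : AlgSt.ofSp G ⥤ᵇ 𝒴) :
    ∃ (V : AlgSp.Sp S) (a : V ⟶ G) (e : AlgSt.ofSp V ⥤ᵇ FibCat.fp z x),
      AlgSp.IsAlgSpace V ∧ FibCat.IsEquivOver e ∧
        Nonempty (BasedFunctor.comp e (FibCat.fpFst z x) ≅ AlgSt.ofSpMap a) ∧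
          AlgSp.LocP R a ∧ AlgSp.IsSurjectiveMor a := by
  obtain ⟨V, a, e, hV, he, ⟨i⟩, ha⟩ := exists_space_prop hasAtlasCovers_atlasCov (pBase_locP hR)
    (isLocalOnBase_locP hR) h𝒳 h𝒴 hx hG z
  exact ⟨V, a, e, hV, he, ⟨i⟩, ha, surjective_of_repWith_ofSpMap a
    ((repWith_congr i).1 ((repWith_precomp he _).2 (repWith_fpFst z hs)))⟩

end Groth.L09.Stack
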