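import Groth.Agent.L09.Stack.ClosedSub
import Groth.Agent.L24.St.SmoothLocal
import Groth.Agent.L24.Tors.Glue
import Groth.Agent.S12795
import Groth.Agent.S12875
import Groth.Agent.L18.KerReduced
import Groth.Agent.L24.St.DiagSpace

/-!
The reduced closed substack on a closed set of points.
-/

set_option autoImplicit false
set_option backward.isDefEq.respectTransparency false
set_option backward.isDefEq.respectTransparency.types false

universe u

open CategoryTheory CategoryTheory.Limits AlgebraicGeometry Opposite AlgSt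

noncomputable section

namespace Groth.L09.Stack

open Groth.L24.St Groth.L24.LocQ

theorem exists_factor_of_reduced {A B R : Scheme.{u}} (j : A ⟶ R) [IsClosedImmersion j] (k : B ⟶ R) [IsReduced B]
    (h : Set.range k ⊆ Set.range j) : ∃ k' : B ⟶ A, k' ≫ j = k := by
  have hs : Function.Surjective (pullback.fst k j) := fun y => by
    obtain ⟨z, hz⟩ := h ⟨y, rfl⟩
    obtain ⟨w, hw, -⟩ := Scheme.Pullback.exists_preimage_pullback (f := k) (g := j) y z hz.symm
    exact ⟨w, hw⟩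
  have := Groth.L16.isIso_of_isClosedImmersion_surjective_reduced _ hs
  exact ⟨inv (pullback.fst k j) ≫ pullback.snd k j, by
    rw [Category.assoc, ← pullback.condition, IsIso.inv_hom_id_assoc]⟩

theorem exists_factor_of_flat_surjective {W W' Z V : Scheme.{u}} (j : Z ⟶ V) [IsClosedImmersion j]
    (ψ : W' ⟶ W) [Flat ψ] [Surjective ψ] (g : W ⟶ V) (l : W' ⟶ Z) (h : l ≫ j = ψ ≫ g) :
    ∃ l₀ : W ⟶ Z, l₀ ≫ j = g := by
  have := isIso_of_flat_surjective_factor (pullback.fst g j) (pullback.lift ψ l h.symm) ψ (pullback.lift_fst _ _ _)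
  exact ⟨inv (pullback.fst g j) ≫ pullback.snd g j, by
    rw [Category.assoc, ← pullback.condition, IsIso.inv_hom_id_assoc]⟩

theorem smoothLocalProp_isReduced : SmoothLocalProp (fun X : Scheme.{u} => IsReduced X) := by
  intro U R hR
  obtain ⟨hcov, hsm⟩ := (show R ∈ Scheme.precoverage @Smooth U from hR)
  refine ⟨fun hU V g hg => ?_, fun h => ?_⟩
  · have : Smooth g := hsm hg
    exact Groth.L23.isReduced_of_smooth g
  · have : ∀ p : U, _root_.IsReduced (U.presheaf.stalk p) := fun p => by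
      obtain ⟨V, g, hg, w, rfl⟩ := hcov p
      rcases hg with @⟨V, g, hg⟩
      have : Smooth g := hsm hg
      have : IsReduced V := h g hg
      exact isReduced_of_injective (g.stalkMap w).hom (Groth.L19.stalkMap_injective_of_flat g w)
    exact isReduced_of_isReduced_stalk U

variable {S : Scheme.{u}} {𝒳 : AlgSt.Cat S}

/-- A lift to a fibre product gives a point of the representing space. -/
theorem exists_section_legs {𝒴 𝒵 : AlgSt.Cat S} {z : 𝒵 ⥤ᵇ 𝒳} {f : 𝒴 ⥤ᵇ 𝒳} {F : AlgSp.Sp S}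
    {e : ofSp F ⥤ᵇ FibCat.fp z f} (he : FibCat.IsEquivOver e) {T : Over S}
    (L : FibCat.overCat T ⥤ᵇ FibCat.fp z f) :
    ∃ σ : (AlgSp.yon S).obj T ⟶ F, ∀ {U : Over S} (Φ : FibCat.fp z f ⥤ᵇ FibCat.overCat U) (φ : T ⟶ U),
      BasedFunctor.comp L Φ = overMap φ → σ ≫ spMapOfOver (BasedFunctor.comp e Φ) = (AlgSp.yon S).map φ := by
  obtain ⟨c, -, -, ⟨ic⟩⟩ := exists_inverse he
  let Ψ : ofSp ((AlgSp.yon S).obj T) ⥤ᵇ ofSp F := BasedFunctor.comp (BasedFunctor.comp (toOverCat T) L) c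
  refine ⟨spMap Ψ, fun {U} Φ φ hφ => ?_⟩
  rw [← spMapOfOver_ofSpMap_comp, ← spMapOfOver_congr (whiskerR (isoOfSpMap Ψ) _),
    show BasedFunctor.comp Ψ (BasedFunctor.comp e Φ) =
      BasedFunctor.comp (BasedFunctor.comp (toOverCat T) L) (BasedFunctor.comp (BasedFunctor.comp c e) Φ) from rfl,
    spMapOfOver_congr (whiskerL (BasedFunctor.comp (toOverCat T) L) (whiskerR ic Φ)),
    show BasedFunctor.comp (BasedFunctor.comp (toOverCat T) L) (BasedFunctor.comp (BasedFunctor.id _) Φ) =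
      BasedFunctor.comp (toOverCat T) (BasedFunctor.comp L Φ) from rfl, hφ, spMapOfOver_overMap,
    spMapOfOver_toOverCat, Category.id_comp]

section Saturation

variable {V Z : Over S}

/-- The objects all of whose charts factor through a given morphism to the atlas. -/
def satProp (y : FibCat.overCat V ⥤ᵇ 𝒳) (j : Z ⟶ V) : 𝒳.obj → Prop := fun ξ =>
  ∀ ⦃W : Over S⦄ (ρ : W ⟶ V) (_ : y.obj (Over.mk ρ) ⟶ ξ), ∃ l : W ⟶ Z, l ≫ j = ρ

variable {y : FibCat.overCat V ⥤ᵇ 𝒳} {j : Z ⟶ V}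

theorem satProp_of_hom {η ξ : 𝒳.obj} (φ : η ⟶ ξ) (h : satProp y j ξ) : satProp y j η :=
  fun _ ρ m => h ρ (m ≫ φ)

theorem satProp_isClosedUnderIsomorphisms : ObjectProperty.IsClosedUnderIsomorphisms (satProp y j) :=
  ⟨fun e h => satProp_of_hom e.inv h⟩

theorem exists_factor_of_satProp {b : (FibCat.overCat V).obj} (h : satProp y j (y.obj b)) :
    ∃ l : b.left ⟶ Z, l ≫ j = b.hom :=
  h b.hom (y.toFunctor.map (Over.homMk (𝟙 b.left) (Category.id_comp _)))

theorem satProp_of_factor (h𝒳 : IsAlgStack Scheme.fppfPrecoverage 𝒳)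
    (hy : RepByAlgSpWith (AlgSp.LocP @Smooth) y) [IsClosedImmersion j.left] [IsReduced Z.left]
    (hsat : ∀ v v', Points.ofChart y v = Points.ofChart y v' → v ∈ Set.range j.left → v' ∈ Set.range j.left)
    (a : (FibCat.overCat V).obj) (la : a.left ⟶ Z) (hla : la ≫ j = a.hom) : satProp y j (y.obj a) := by
  intro W g' m
  let gm : W ⟶ a.left := eqToHom (y.w_obj (Over.mk g')).symm ≫ 𝒳.p.map m ≫ eqToHom (y.w_obj a)
  let b : W ⟶ V := gm ≫ a.hom
  let φ : (Over.mk b : (FibCat.overCat V).obj) ⟶ a := Over.homMk gm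
  have epp : 𝒳.p.obj (y.obj (Over.mk g')) = 𝒳.p.obj (y.obj (Over.mk b)) :=
    (y.w_obj (Over.mk g')).trans (y.w_obj (Over.mk b)).symm
  obtain ⟨k, hk, -⟩ := exists_iso_factor h𝒳.isStack.1 m (y.toFunctor.map φ) epp (by
    rw [p_map_map]
    show eqToHom epp ≫ eqToHom _ ≫ gm ≫ eqToHom _ = _
    simp [gm])
  let c₁ : (Over.mk (𝟙 W ≫ g') : (FibCat.overCat V).obj) ≅ Over.mk g' := Over.isoMk (Iso.refl _) (by simp)
  let c₂ : (Over.mk (𝟙 W ≫ b) : (FibCat.overCat V).obj) ≅ Over.mk b := Over.isoMk (Iso.refl _) (by simp)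
  obtain ⟨α, -⟩ := exists_iso_of_evalId h𝒳.isStack.1 (G := BasedFunctor.comp (overMap g') y)
    (H := BasedFunctor.comp (overMap b) y) (y.toFunctor.mapIso c₁ ≪≫ k ≪≫ (y.toFunctor.mapIso c₂).symm)
    (((OverId.of_eq (𝒳 := FibCat.overCat V) (φ := c₁.hom) rfl rfl).map y).comp
      (hk.comp ((OverId.of_eq (𝒳 := FibCat.overCat V) (φ := c₂.inv) rfl rfl).map y)))
  obtain ⟨F, e, he, hp1⟩ := hy V y
  have hp2 : AlgSp.LocP @Smooth (spMapOfOver (BasedFunctor.comp e (FibCat.fpSnd y y))) :=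
    locP_spMapOfOver Groth.L23.etLocal_smooth F.property ((repWith_precomp he _).2 (repWith_fpSnd y hy))
  obtain ⟨σ, hσ⟩ := exists_section_legs he (FibCat.fpLift (overMap g') (overMap b) α)
  have hσ1 := hσ (FibCat.fpFst y y) g' rfl
  have hσ2 := hσ (FibCat.fpSnd y y) b rfl
  obtain ⟨R, q, hqE, hqS⟩ := F.property.atlas
  obtain ⟨r₁, hr₁⟩ := (AlgSp.yon S).map_surjective (q ≫ spMapOfOver (BasedFunctor.comp e (FibCat.fpFst y y)))
  obtain ⟨r₂, hr₂⟩ := (AlgSp.yon S).map_surjective (q ≫ spMapOfOver (BasedFunctor.comp e (FibCat.fpSnd y y)))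
  have : Smooth r₁.left := hp1 q (𝟙 _) r₁ hqE (AlgSp.repWith_id _ V) (by rw [Category.comp_id, hr₁])
  have : Smooth r₂.left := hp2 q (𝟙 _) r₂ hqE (AlgSp.repWith_id _ V) (by rw [Category.comp_id, hr₂])
  let E : FibCat.overCat R ⥤ᵇ FibCat.fp y y := BasedFunctor.comp (ofOverCat R) (BasedFunctor.comp (ofSpMap q) e)
  obtain ⟨ρ₁, ⟨i₁⟩, hρ₁⟩ := exists_overMap_iso (BasedFunctor.comp E (FibCat.fpFst y y))
  obtain ⟨ρ₂, ⟨i₂⟩, hρ₂⟩ := exists_overMap_iso (BasedFunctor.comp E (FibCat.fpSnd y y))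
  obtain rfl : ρ₁ = r₁ := (AlgSp.yon S).map_injective (by
    rw [← hρ₁, hr₁, ← spMapOfOver_ofSpMap_comp]; rfl)
  obtain rfl : ρ₂ = r₂ := (AlgSp.yon S).map_injective (by
    rw [← hρ₂, hr₂, ← spMapOfOver_ofSpMap_comp]; rfl)
  have hpts : ∀ r, Points.ofChart y (ρ₁.left r) = Points.ofChart y (ρ₂.left r) := fun r => by
    rw [← ofChart_overMap_comp, ← ofChart_overMap_comp]
    exact congrFun (ofChart_congr ((whiskerR i₁ y).symm ≪≫ whiskerL E (FibCat.fpIso y y) ≪≫ whiskerR i₂ y)) r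
  have : IsReduced (pullback ρ₂.left j.left) := Groth.L23.isReduced_of_smooth (pullback.snd ρ₂.left j.left)
  obtain ⟨ι, hι⟩ := exists_factor_of_reduced (pullback.fst ρ₁.left j.left) (pullback.fst ρ₂.left j.left) (by
    rintro _ ⟨w, rfl⟩
    rw [Scheme.Pullback.range_fst]
    refine hsat _ _ (hpts _).symm ?_
    rw [← Scheme.Hom.comp_apply, pullback.condition, Scheme.Hom.comp_apply]
    exact ⟨_, rfl⟩)
  let W'' := hqE.1.pullback σ
  let ψ : W'' ⟶ W := hqE.1.snd σ
  have sq := hqE.1.isPullback σ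
  have hψ : Etale ψ.left := Groth.L23.repWith_prop hqE sq
  have : Surjective ψ.left := Groth.L23.repWith_prop hqS sq
  obtain ⟨kk, hkk⟩ := (AlgSp.yon S).map_surjective (hqE.1.fst σ)
  have hk1 : kk ≫ ρ₁ = ψ ≫ g' := (AlgSp.yon S).map_injective (by
    rw [Functor.map_comp, Functor.map_comp, hkk, hr₁, ← Category.assoc, sq.w, Category.assoc, hσ1])
  have hk2 : kk ≫ ρ₂ = ψ ≫ b := (AlgSp.yon S).map_injective (by
    rw [Functor.map_comp, Functor.map_comp, hkk, hr₂, ← Category.assoc, sq.w, Category.assoc, hσ2])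
  have hb : (gm ≫ la) ≫ j = b := by rw [Category.assoc, hla]
  have hk1' : kk.left ≫ ρ₁.left = ψ.left ≫ g'.left := congrArg CommaMorphism.left hk1
  have hk2' : kk.left ≫ ρ₂.left = (ψ.left ≫ (gm ≫ la).left) ≫ j.left := by
    have := congrArg CommaMorphism.left (hk2.trans (congrArg (ψ ≫ ·) hb.symm))
    simpa using this
  obtain ⟨l₀, hl₀⟩ := exists_factor_of_flat_surjective j.left ψ.left g'.left
    (pullback.lift kk.left (ψ.left ≫ (gm ≫ la).left) hk2' ≫ ι ≫ pullback.snd ρ₁.left j.left) (by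
      refine Eq.trans ?_ hk1'
      refine ((Category.assoc _ _ _).trans (congrArg (fun t => pullback.lift kk.left _ hk2' ≫ t)
        ((Category.assoc _ _ _).trans ((congrArg (fun t => ι ≫ t) pullback.condition.symm).trans
          ((Category.assoc _ _ _).symm.trans (congrArg (fun t => t ≫ ρ₁.left) hι)))))).trans ?_
      exact (Category.assoc _ _ _).symm.trans (congrArg (fun t => t ≫ ρ₁.left) (pullback.lift_fst _ _ hk2')))
  exact ⟨Over.homMk l₀ (by rw [← Over.w j, ← Category.assoc, hl₀]; exact Over.w g'), Over.OverMorphism.ext hl₀⟩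

theorem satProp_local (h𝒳 : IsAlgStack Scheme.fppfPrecoverage 𝒳) [IsClosedImmersion j.left] {U : Over S}
    (R : Sieve U) (hR : R ∈ QuotSh.J Scheme.fppfPrecoverage S U) (x : 𝒳.obj) (hx : 𝒳.p.obj x = U)
    (H : ∀ ⦃V' : Over S⦄ (f : V' ⟶ U), R f → ∀ (y₀ : 𝒳.obj) (φ : y₀ ⟶ x), 𝒳.p.IsHomLift f φ → satProp y j y₀) :
    satProp y j x := by
  intro W ρ m
  let ψ : W ⟶ U := eqToHom (y.w_obj (Over.mk ρ)).symm ≫ 𝒳.p.map m ≫ eqToHom hx
  have hR' : R.pullback ψ ∈ AlgSp.J S W := (AlgSp.J S).pullback_stable ψ hR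
  have : Mono j := Over.mono_of_mono_left j
  have : Mono ((AlgSp.yon S).map j) := ⟨fun {P} a b h => Groth.L23.hom_ext_yon fun T p => by
    obtain ⟨a', ha'⟩ := (AlgSp.yon S).map_surjective (p ≫ a)
    obtain ⟨b', hb'⟩ := (AlgSp.yon S).map_surjective (p ≫ b)
    have e : a' = b' := (cancel_mono j).1 ((AlgSp.yon S).map_injective
      (by rw [Functor.map_comp, Functor.map_comp, ha', hb', Category.assoc, Category.assoc, h]))
    rw [← ha', ← hb', e]⟩
  have hl : ∀ ⦃W' : Over S⦄ (g : W' ⟶ W), R.pullback ψ g → ∃ l : W' ⟶ Z, l ≫ j = g ≫ ρ := fun W' g hg =>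
    exists_factor_of_satProp (b := Over.mk (g ≫ ρ)) (H (g ≫ ψ) hg _
      (y.toFunctor.map (Over.homMk g : (Over.mk (g ≫ ρ) : (FibCat.overCat V).obj) ⟶ Over.mk ρ) ≫ m)
      (IsHomLift.of_fac' 𝒳.p _ _ (y.w_obj _) hx (by
        rw [Functor.map_comp, p_map_map]
        show (eqToHom _ ≫ g ≫ eqToHom _) ≫ _ = _
        simp [ψ])))
  choose l hl using hl
  obtain ⟨h, hh⟩ := Groth.L24.Tors.exists_glue_sieve (Q := (AlgSp.yon S).obj Z) hR'
    (fun W' g hg => (AlgSp.yon S).map (l g hg)) (fun W' W'' g hg k => by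
      refine (cancel_mono ((AlgSp.yon S).map j)).1 ?_
      simp only [← Functor.map_comp, Category.assoc, hl])
  obtain ⟨h', rfl⟩ := (AlgSp.yon S).map_surjective h
  refine ⟨h', (AlgSp.yon S).map_injective (Groth.L24.Tors.hom_ext_sieve hR' fun W' g hg => ?_)⟩
  rw [Functor.map_comp, ← Category.assoc, hh g hg, ← Functor.map_comp, ← Functor.map_comp, hl]

end Saturation

section FullSub

variable {V Z : Over S} {y : FibCat.overCat V ⥤ᵇ 𝒳} {j : Z ⟶ V}

theorem isStack_satProp (h𝒳 : IsAlgStack Scheme.fppfPrecoverage 𝒳) [IsClosedImmersion j.left] :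
    Stk.IsStack (QuotSh.J Scheme.fppfPrecoverage S) (fullSub 𝒳 (satProp y j)) := by
  refine Groth.Agent.S12795.result _ h𝒳.isStack (satProp y j)
    (fun η ξ φ hξ => ⟨η, Iso.refl η, satProp_of_hom φ hξ, overId_id η⟩) ?_
  intro U R hR x hx H
  refine ⟨x, Iso.refl x, satProp_local h𝒳 R hR x hx fun V' f hf y₀ φ hφ => ?_, (overId_id x).lift hx⟩
  obtain ⟨y', e, hy', -⟩ := H f hf y₀ φ hφ
  exact satProp_of_hom e.hom hy'

theorem overId_fullSub {Q : 𝒳.obj → Prop} {a b : (fullSub 𝒳 Q).obj} (m : a ⟶ b) (h : OverId m.hom) :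
    OverId m := by
  obtain ⟨e, he⟩ := h.eq
  exact OverId.of_eq (𝒳 := fullSub 𝒳 Q) e he

variable (hmem : ∀ a, satProp y j (y.obj ((overMap j).obj a)))
include hmem

/-- The chart of the full subcategory. -/
def satLift : FibCat.overCat Z ⥤ᵇ fullSub 𝒳 (satProp y j) where
  toFunctor := ObjectProperty.lift _ (BasedFunctor.comp (overMap j) y).toFunctor hmem
  w := (BasedFunctor.comp (overMap j) y).w

theorem satLift_comp : BasedFunctor.comp (satLift hmem) (subIncl 𝒳 (satProp y j)) = BasedFunctor.comp (overMap j) y :=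
  rfl

/-- The comparison with the fibre product over the stack. -/
def satFp {U : Over S} (G : FibCat.overCat U ⥤ᵇ fullSub 𝒳 (satProp y j)) :
    FibCat.fp G (satLift hmem) ⥤ᵇ FibCat.fp (BasedFunctor.comp G (subIncl 𝒳 (satProp y j))) y :=
  FibCat.fpLift (FibCat.fpFst G (satLift hmem)) (BasedFunctor.comp (FibCat.fpSnd G (satLift hmem)) (overMap j))
    (whiskerR (FibCat.fpIso G (satLift hmem)) (subIncl 𝒳 (satProp y j)) :)

theorem satFp_isEquivOver [IsClosedImmersion j.left] {U : Over S}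
    (G : FibCat.overCat U ⥤ᵇ fullSub 𝒳 (satProp y j)) : FibCat.IsEquivOver (satFp hmem G) := by
  have : Mono j := Over.mono_of_mono_left j
  have : (satFp hmem G).toFunctor.Faithful := ⟨fun {w w'} {m m'} h => fp_ext
    (congrArg (fun t : (satFp hmem G).obj w ⟶ (satFp hmem G).obj w' => t.hom.fst) h)
    (Over.OverMorphism.ext (congrArg (fun t : (satFp hmem G).obj w ⟶ (satFp hmem G).obj w' => t.hom.snd.left) h))⟩
  have : (satFp hmem G).toFunctor.Full := ⟨fun {w w'} M => by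
    have e : M.hom.snd.left ≫ w'.obj.snd.hom ≫ j = w.obj.snd.hom ≫ j := Over.w M.hom.snd
    let b₀ : w.obj.snd ⟶ w'.obj.snd := Over.homMk M.hom.snd.left
      ((cancel_mono j).1 ((Category.assoc _ _ _).trans e))
    have hb : (overMap j).toFunctor.map b₀ = M.hom.snd := Over.OverMorphism.ext rfl
    refine ⟨fpHom M.hom.fst b₀ (ObjectProperty.hom_ext _ ?_), fp_ext rfl hb⟩
    show (G.map M.hom.fst).hom ≫ w'.obj.iso.hom.hom = w.obj.iso.hom.hom ≫ y.map ((overMap j).toFunctor.map b₀)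
    rw [hb]
    exact M.hom.w⟩
  refine isEquivOver_of_overId _ fun η => ?_
  obtain ⟨l, hl⟩ := exists_factor_of_satProp (b := η.obj.snd)
    (satProp_of_hom η.obj.iso.inv (G.obj η.obj.fst).property)
  let κ : (overMap j).obj (Over.mk l) ≅ η.obj.snd := Over.isoMk (Iso.refl _) (by
    show 𝟙 _ ≫ η.obj.snd.hom = l ≫ j
    rw [Category.id_comp, hl])
  have hκ : OverId κ.hom := OverId.of_eq rfl rfl
  let i₀ : G.obj η.obj.fst ≅ (satLift hmem).obj (Over.mk l) :=
    ObjectProperty.isoMk _ (η.obj.iso ≪≫ (y.toFunctor.mapIso κ).symm)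
  have hi₀ : OverId i₀.hom := overId_fullSub _ ((fp_overId η).comp ((OverId.inv hκ).map y))
  refine ⟨fpObj η.obj.fst (Over.mk l) i₀ hi₀, fpIsoMk (Iso.refl _) κ ?_, overId_fp _ (overId_id _)⟩
  show (subIncl 𝒳 (satProp y j)).map (G.map (𝟙 _)) ≫ η.obj.iso.hom = (η.obj.iso.hom ≫ y.map κ.inv) ≫ y.map κ.hom
  simp [← Functor.map_comp]

theorem repWith_satLift [IsClosedImmersion j.left] {P : MorphismProperty (AlgSp.Sp S)}
    (hy : RepByAlgSpWith P y) : RepByAlgSpWith P (satLift hmem) := fun U G =>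
  (Wit.transfer (satFp hmem G) (satFp_isEquivOver hmem G) (Iso.refl _)).2
    (hy U (BasedFunctor.comp G (subIncl 𝒳 (satProp y j))))

theorem isAlgStack_satProp (h𝒳 : IsAlgStack Scheme.fppfPrecoverage 𝒳) [IsClosedImmersion j.left]
    (hy : RepByAlgSpWith (AlgSp.LocP @Smooth) y) (hys : RepByAlgSpWith AlgSp.IsSurjectiveMor y) :
    IsAlgStack Scheme.fppfPrecoverage (fullSub 𝒳 (satProp y j)) := by
  have hst := isStack_satProp h𝒳 (y := y) (j := j)
  refine ⟨hst, ?_, Z, satLift hmem, repWith_satLift hmem hy, repWith_satLift hmem hys⟩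
  have : (subIncl 𝒳 (satProp y j)).toFunctor.Full := inferInstanceAs (ObjectProperty.ι (satProp y j)).Full
  have : (subIncl 𝒳 (satProp y j)).toFunctor.Faithful := inferInstanceAs (ObjectProperty.ι (satProp y j)).Faithful
  have hd : RepByAlgSp1 (FibCat.diag (subIncl 𝒳 (satProp y j))) :=
    repWith_rep1 (repWith_of_isEquivOver (P := (⊤ : MorphismProperty (AlgSp.Sp S))) (fun _ _ _ _ _ _ => trivial)
      (diag_isEquivOver_of_fullFaithful _))
  have h1 := diag_comp_rep1 hst.1 h𝒳.isStack.1 hd h𝒳.diag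
  exact (rep1_iff _).2 ((diag_repWith_square (f := FibCat.toSelf (fullSub 𝒳 (satProp y j)))
    (f' := BasedFunctor.comp (subIncl 𝒳 (satProp y j)) (FibCat.toSelf 𝒳))
    (isEquivOver_id _) (isEquivOver_id _) (toSelfIso _)).2 ((rep1_iff _).1 h1))

/-- The closed subscheme as the base change of the inclusion. -/
def satChart : ofSp ((AlgSp.yon S).obj Z) ⥤ᵇ
    FibCat.fp (BasedFunctor.comp (toOverCat V) y) (subIncl 𝒳 (satProp y j)) :=
  FibCat.fpLift (ofSpMap ((AlgSp.yon S).map j)) (BasedFunctor.comp (toOverCat Z) (satLift hmem))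
    (mkIso2 (fun _ => Iso.refl _) (fun a b m => (Category.comp_id _).trans (Category.id_comp _).symm)
      (fun _ => overId_id _))

theorem satChart_isEquivOver [IsClosedImmersion j.left] : FibCat.IsEquivOver (satChart hmem) := by
  have : Mono j := Over.mono_of_mono_left j
  have : (satChart hmem).toFunctor.Faithful := ⟨fun {w w'} {m m'} h =>
    Stk.EltObj.hom_ext (congrArg (fun t : (satChart hmem).obj w ⟶ (satChart hmem).obj w' => t.hom.fst.hom) h)⟩
  have : (satChart hmem).toFunctor.Full := ⟨fun {w w'} M => by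
    have e : M.hom.fst.hom ≫ w'.sec.down ≫ j = w.sec.down ≫ j := congrArg ULift.down M.hom.fst.map_sec
    let m₀ : w ⟶ w' := ⟨M.hom.fst.hom, congrArg ULift.up ((cancel_mono j).1 ((Category.assoc _ _ _).trans e))⟩
    refine ⟨m₀, fp_ext (Stk.EltObj.hom_ext rfl) (ObjectProperty.hom_ext _ ?_)⟩
    have hw := M.hom.w
    change (BasedFunctor.comp (toOverCat V) y).map M.hom.fst ≫ 𝟙 _ =
      𝟙 _ ≫ (subIncl 𝒳 (satProp y j)).map M.hom.snd at hw
    rw [Category.comp_id, Category.id_comp] at hw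
    exact (congrArg y.toFunctor.map (Over.OverMorphism.ext rfl)).trans hw⟩
  refine isEquivOver_of_overId _ fun η => ?_
  let a := η.obj.fst
  obtain ⟨l, hl⟩ := exists_factor_of_satProp (b := (toOverCat V).obj a)
    (satProp_of_hom η.obj.iso.hom η.obj.snd.property)
  let a₀ : (ofSp ((AlgSp.yon S).obj Z)).obj := ⟨a.base, ⟨l⟩⟩
  let κ : (ofSpMap ((AlgSp.yon S).map j)).obj a₀ ≅ a :=
    { hom := ⟨𝟙 _, congrArg ULift.up ((Category.id_comp _).trans hl.symm)⟩
      inv := ⟨𝟙 _, congrArg ULift.up ((Category.id_comp _).trans hl)⟩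
      hom_inv_id := Stk.EltObj.hom_ext (Category.id_comp _)
      inv_hom_id := Stk.EltObj.hom_ext (Category.id_comp _) }
  have hκ : OverId κ.hom := OverId.of_eq rfl rfl
  let κ₂ : (satLift hmem).obj ((toOverCat Z).obj a₀) ≅ η.obj.snd :=
    ObjectProperty.isoMk _ ((BasedFunctor.comp (toOverCat V) y).toFunctor.mapIso κ ≪≫ η.obj.iso)
  refine ⟨a₀, fpIsoMk κ κ₂ ?_, overId_fp _ hκ⟩
  show (BasedFunctor.comp (toOverCat V) y).map κ.hom ≫ η.obj.iso.hom =
    𝟙 _ ≫ (BasedFunctor.comp (toOverCat V) y).map κ.hom ≫ η.obj.iso.hom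
  rw [Category.id_comp]

theorem isClosedImm_satProp (h𝒳 : IsAlgStack Scheme.fppfPrecoverage 𝒳) [IsClosedImmersion j.left]
    (hy : RepByAlgSpWith (AlgSp.LocP @Smooth) y) (hys : RepByAlgSpWith AlgSp.IsSurjectiveMor y) :
    IsClosedImm (subIncl 𝒳 (satProp y j)) := by
  have hfl : RepByAlgSpWith (AlgSp.LocP @Flat) y := repWith_mono (fun F U _ a h => fun U' V α b k hα hb w => by
    have := h α b k hα hb w; infer_instance) hy
  have hlfp : RepByAlgSpWith (AlgSp.LocP @LocallyOfFinitePresentation) y := repWith_mono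
    (fun F U _ a h => fun U' V α b k hα hb w => by have := h α b k hα hb w; infer_instance) hy
  exact (Groth.Agent.S12875.result (isAlgStack_satProp hmem h𝒳 hy hys) h𝒳 (subIncl 𝒳 (satProp y j))
    ⟨(AlgSp.yon S).obj V, AlgSp.IsAlgSpace.yon_obj V⟩ (BasedFunctor.comp (toOverCat V) y)
    ((repWith_precomp (toOverCat_isEquivOver V) y).2 hfl) ((repWith_precomp (toOverCat_isEquivOver V) y).2 hlfp)
    ((repWith_precomp (toOverCat_isEquivOver V) y).2 hys)).2
    ⟨⟨(AlgSp.yon S).obj Z, AlgSp.IsAlgSpace.yon_obj Z⟩, ⟨(AlgSp.yon S).map j⟩, satChart hmem,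
      satChart_isEquivOver hmem, ⟨Iso.refl _⟩, (AlgSp.repWith_yon_map_iff _ _).2 ‹_›⟩

theorem range_map_satProp (h𝒳 : IsAlgStack Scheme.fppfPrecoverage 𝒳) [IsClosedImmersion j.left]
    (hy : RepByAlgSpWith (AlgSp.LocP @Smooth) y) (hys : RepByAlgSpWith AlgSp.IsSurjectiveMor y) :
    Set.range (Points.map (subIncl 𝒳 (satProp y j))) = Points.ofChart y '' Set.range j.left := by
  have key : ∀ z, Points.map (subIncl 𝒳 (satProp y j)) (Points.ofChart (satLift hmem) z) =
      Points.ofChart y (j.left z) := fun z =>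
    (congrFun (map_comp_ofChart (satLift hmem) (subIncl 𝒳 (satProp y j))).symm z).trans
      (ofChart_overMap_comp j y z)
  apply Set.Subset.antisymm
  · rintro _ ⟨p, rfl⟩
    obtain ⟨z, rfl⟩ := surjective_ofChart_of_repWith (isStack_satProp h𝒳).1 (repWith_satLift hmem hys) p
    exact ⟨j.left z, ⟨z, rfl⟩, (key z).symm⟩
  · rintro _ ⟨_, ⟨z, rfl⟩, rfl⟩
    exact ⟨_, key z⟩

theorem smoothLocally_satProp (h𝒳 : IsAlgStack Scheme.fppfPrecoverage 𝒳) [IsClosedImmersion j.left]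
    [IsReduced Z.left] (hy : RepByAlgSpWith (AlgSp.LocP @Smooth) y) (hys : RepByAlgSpWith AlgSp.IsSurjectiveMor y) :
    SmoothLocally (fun X => IsReduced X) (fullSub 𝒳 (satProp y j)) :=
  smoothLocally_of_chart (isStack_satProp h𝒳).1 smoothLocalProp_isReduced (repWith_satLift hmem hy)
    (surjective_ofChart_of_repWith (isStack_satProp h𝒳).1 (repWith_satLift hmem hys)) ‹_›

end FullSub

/-- A closed set of points carries a reduced closed substack. -/
theorem exists_reduced_closedSubstack (h𝒳 : IsAlgStack Scheme.fppfPrecoverage 𝒳) (T : Set (Points 𝒳))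
    (hT : IsClosed T) :
    ∃ Q : 𝒳.obj → Prop, IsClosedSubstack 𝒳 Q Scheme.fppfPrecoverage ∧
      Set.range (Points.map (subIncl 𝒳 Q)) = T ∧ SmoothLocally (fun X => IsReduced X) (fullSub 𝒳 Q) := by
  obtain ⟨V, y, hy, hys⟩ := h𝒳.atlas
  let TV : TopologicalSpace.Closeds V.left := ⟨Points.ofChart y ⁻¹' T, hT.preimage (continuous_ofChart h𝒳 y)⟩
  let I := Scheme.IdealSheafData.vanishingIdeal TV
  let Z : Over S := Over.mk (I.subschemeι ≫ V.hom)
  let j : Z ⟶ V := Over.homMk I.subschemeι rfl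
  have : IsClosedImmersion j.left := inferInstanceAs (IsClosedImmersion I.subschemeι)
  have : IsReduced Z.left := Groth.L18.isReduced_vanishingIdeal_subscheme TV
  have hrange : Set.range j.left = Points.ofChart y ⁻¹' T := by
    show Set.range I.subschemeι = _
    rw [Scheme.IdealSheafData.range_subschemeι, Scheme.IdealSheafData.coe_support_vanishingIdeal]
    rfl
  have hmem : ∀ a, satProp y j (y.obj ((overMap j).obj a)) := fun a =>
    satProp_of_factor h𝒳 hy (fun v v' h hv => by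
      rw [hrange] at hv ⊢
      show Points.ofChart y v' ∈ T
      rw [← h]; exact hv) ((overMap j).obj a) a.hom rfl
  refine ⟨satProp y j, ⟨satProp_isClosedUnderIsomorphisms, isAlgStack_satProp hmem h𝒳 hy hys,
    isClosedImm_satProp hmem h𝒳 hy hys⟩, ?_, smoothLocally_satProp hmem h𝒳 hy hys⟩
  rw [range_map_satProp hmem h𝒳 hy hys, hrange]
  exact Set.image_preimage_eq T (surjective_ofChart_of_repWith h𝒳.isStack.1 hys)

end Groth.L09.Stack
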