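import Groth.Prelude.Def_AlgSt5

/-!
Morphisms out of trivial torsors in quotient categories.
-/

set_option autoImplicit false
set_option backward.isDefEq.respectTransparency false
set_option backward.isDefEq.respectTransparency.types false

universe u

open CategoryTheory CategoryTheory.Limits AlgebraicGeometry Opposite MonoidalCategory CartesianMonoidalCategory
open MonObj

noncomputable section

namespace Groth.L09.Stack

variable {S : Scheme.{u}} {G : Over S} [GrpObj G] {X : Over S} (aX : AlgGrp.Action G X)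

theorem lift_mul_act {W : Over S} (a b : W ⟶ G) (y : W ⟶ X) :
    lift (a * b) y ≫ aX.act = lift a (lift b y ≫ aX.act) ≫ aX.act := by
  have h1 : lift (a * b) y = lift (lift a b) y ≫ (μ[G] ▷ X) := by
    apply CartesianMonoidalCategory.hom_ext <;> simp [Hom.mul_def]
  have h2 : lift (lift a b) y ≫ (α_ G G X).hom ≫ (G ◁ aX.act) = lift a (lift b y ≫ aX.act) := by
    apply CartesianMonoidalCategory.hom_ext <;>
      simp only [Category.assoc, whiskerLeft_fst, whiskerLeft_snd, associator_hom_fst, lift_fst_assoc,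
        lift_fst, lift_snd]
    rw [← Category.assoc, ← Category.assoc]
    congr 1
    apply CartesianMonoidalCategory.hom_ext <;> simp
  rw [h1, Category.assoc, aX.mul_act, ← h2]
  simp only [Category.assoc]

theorem lift_one_act {W : Over S} (y : W ⟶ X) : lift (1 : W ⟶ G) y ≫ aX.act = y := by
  have h1 : lift (1 : W ⟶ G) y = lift (toUnit W) y ≫ (η[G] ▷ X) := by
    apply CartesianMonoidalCategory.hom_ext <;> simp [Hom.one_def]
  rw [h1, Category.assoc, aX.one_act]
  simp

theorem leftMul_act_fst {T T' : Over S} (p : T' ⟶ G) (q : T' ⟶ G ⊗ T) :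
    lift p q ≫ (AlgSt.leftMul G T).act = lift (p * (q ≫ fst G T)) (q ≫ snd G T) := by
  simp [AlgSt.leftMul, comp_lift, comp_mul]

theorem exists_translation {T T' : Over S} {f : T ⟶ T'} (x : T ⟶ X) (x' : T' ⟶ X) (top : G ⊗ T ⟶ G ⊗ T')
    (hw : top ≫ snd G T' = snd G T ≫ f)
    (he : (AlgSt.leftMul G T).act ≫ top = (G ◁ top) ≫ (AlgSt.leftMul G T').act)
    (hφ : top ≫ (G ◁ x') ≫ aX.act = (G ◁ x) ≫ aX.act) :
    ∃ g : T ⟶ G, lift g (f ≫ x') ≫ aX.act = x ∧ top = lift (fst G T * (snd G T ≫ g)) (snd G T ≫ f) := by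
  let g : T ⟶ G := lift (1 : T ⟶ G) (𝟙 T) ≫ top ≫ fst G T'
  refine ⟨g, ?_, ?_⟩
  · have e1 : lift (1 : T ⟶ G) (𝟙 T) ≫ top ≫ (G ◁ x') = lift g (f ≫ x') := by
      apply CartesianMonoidalCategory.hom_ext
      · simp [g]
      · simp only [Category.assoc, whiskerLeft_snd, lift_snd]
        rw [reassoc_of% hw, lift_snd_assoc, Category.id_comp]
    have e2 : lift (1 : T ⟶ G) (𝟙 T) ≫ (G ◁ x) = lift (1 : T ⟶ G) x := by
      apply CartesianMonoidalCategory.hom_ext <;> simp
    rw [← reassoc_of% e1, hφ, reassoc_of% e2, lift_one_act]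
  · let σ : G ⊗ T ⟶ G ⊗ (G ⊗ T) := lift (fst G T) (snd G T ≫ lift (1 : T ⟶ G) (𝟙 T))
    have e1 : σ ≫ (AlgSt.leftMul G T).act = 𝟙 _ := by
      rw [leftMul_act_fst, Category.assoc, Category.assoc, lift_fst, lift_snd, MonObj.comp_one, _root_.mul_one,
        Category.comp_id, lift_fst_snd]
    have e2 : σ ≫ (G ◁ top) = lift (fst G T) (snd G T ≫ lift (1 : T ⟶ G) (𝟙 T) ≫ top) := by
      apply CartesianMonoidalCategory.hom_ext
      · simp [σ]
      · simp only [σ, Category.assoc, whiskerLeft_snd, lift_snd_assoc, lift_snd]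
    calc top = σ ≫ (AlgSt.leftMul G T).act ≫ top := by rw [← Category.assoc, e1]; exact (Category.id_comp _).symm
      _ = _ := by
        rw [he, ← Category.assoc, e2, leftMul_act_fst]
        congr 1
        · simp [g, hw]

/-- The map from the trivial torsor given by a point of a space with an action is equivariant. -/
theorem leftMul_equivariant {T P : Over S} (a : AlgGrp.Action G P) (s : T ⟶ P) :
    (AlgSt.leftMul G T).act ≫ (G ◁ s) ≫ a.act = (G ◁ ((G ◁ s) ≫ a.act)) ≫ a.act := by
  have e : ∀ {W : Over S} (p : W ⟶ G) (q : W ⟶ T), lift p q ≫ (G ◁ s) ≫ a.act = lift p (q ≫ s) ≫ a.act :=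
    fun p q => by
      rw [← Category.assoc]; congr 1
      apply CartesianMonoidalCategory.hom_ext <;> simp
  have e' : (AlgSt.leftMul G T).act =
      lift (fst G (G ⊗ T) * (snd G (G ⊗ T) ≫ fst G T)) (snd G (G ⊗ T) ≫ snd G T) := rfl
  rw [e', e, lift_mul_act]
  congr 1
  apply CartesianMonoidalCategory.hom_ext
  · simp
  · simp only [lift_snd, whiskerLeft_snd, Category.assoc]
    rw [← Category.assoc, ← Category.assoc (snd G (G ⊗ T)) (G ◁ s) a.act]
    congr 1
    apply CartesianMonoidalCategory.hom_ext <;> simp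

end Groth.L09.Stack
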