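import Groth.Agent.L24.Sub.OpenSub2
import Groth.Agent.L24.St.MonoQcStack
import Groth.Agent.L09.FieldPt.Basic
import Groth.Agent.L16.SectionExtend
import Groth.Agent.L23.SourceRegular

/-!
Objects of closed substacks.
-/

set_option autoImplicit false
set_option backward.isDefEq.respectTransparency false
set_option backward.isDefEq.respectTransparency.types false

universe u

open CategoryTheory CategoryTheory.Limits AlgebraicGeometry Opposite AlgSt

noncomputable section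

namespace Groth.L09.Stack

open Groth.L24.St

variable {S : Scheme.{u}} {𝒳 : AlgSt.Cat S}

/-- A closed immersion through which a flat surjective morphism factors is an isomorphism. -/
theorem isIso_of_flat_surjective_factor {W Z U : Scheme.{u}} (j : Z ⟶ U) [IsClosedImmersion j] (l : W ⟶ Z)
    (ψ : W ⟶ U) [Flat ψ] [Surjective ψ] (h : l ≫ j = ψ) : IsIso j := by
  subst h
  have hs : Function.Surjective j := fun y => by
    obtain ⟨w, rfl⟩ := (l ≫ j).surjective y
    exact ⟨l w, rfl⟩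
  have : ∀ z, IsIso (j.stalkMap z) := fun z => by
    obtain ⟨w, hw⟩ := (l ≫ j).surjective (j z)
    have hz : l w = z := j.isEmbedding.injective hw
    subst hz
    rw [ConcreteCategory.isIso_iff_bijective]
    refine ⟨?_, j.stalkMap_surjective (l w)⟩
    intro p q hpq
    apply Groth.L19.stalkMap_injective_of_flat (l ≫ j) w
    rw [Scheme.Hom.stalkMap_comp]
    exact congrArg (fun t => (l.stalkMap w).hom t) hpq
  have hopen : IsOpenImmersion j :=
    IsOpenImmersion.of_isIso_stalkMap j ⟨j.isEmbedding, by rw [hs.range_eq]; exact isOpen_univ⟩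
  have : Surjective j := ⟨hs⟩
  exact (isIso_iff_isOpenImmersion_and_surjective j).2 ⟨hopen, this⟩

variable {Q : 𝒳.obj → Prop}

/-- The closed subscheme cut out on a scheme by a closed substack. -/
theorem exists_closed_subscheme (h𝒳 : IsAlgStack Scheme.fppfPrecoverage 𝒳)
    (hQ : IsClosedSubstack 𝒳 Q Scheme.fppfPrecoverage) {U : Over S} (G : FibCat.overCat U ⥤ᵇ 𝒳) :
    ∃ (Z : Over S) (j : Z ⟶ U), IsClosedImmersion j.left ∧
      (∀ (W : Over S) (ψ : W ⟶ U) (σ : FibCat.overCat W ⥤ᵇ fullSub 𝒳 Q),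
        Nonempty (BasedFunctor.comp σ (subIncl 𝒳 Q) ≅ BasedFunctor.comp (overMap ψ) G) → ∃ l : W ⟶ Z, l ≫ j = ψ) ∧
      (∀ t : U.left, Points.ofChart G t ∈ Set.range (Points.map (subIncl 𝒳 Q)) → t ∈ Set.range j.left) ∧
      (IsIso j.left → ∀ a, Q (G.obj a)) := by
  obtain ⟨F, e, he, ha⟩ := hQ.2.2 U G
  let Z := ha.1.pullback (𝟙 ((AlgSp.yon S).obj U))
  let pZ := ha.1.fst (𝟙 ((AlgSp.yon S).obj U))
  let jZ := ha.1.snd (𝟙 ((AlgSp.yon S).obj U))
  have sq := ha.1.isPullback (𝟙 ((AlgSp.yon S).obj U))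
  have hj : IsClosedImmersion jZ.left := Groth.L23.repWith_prop ha sq
  have : IsIso pZ := sq.isIso_fst_of_isIso
  have hpj : pZ ≫ spMapOfOver (BasedFunctor.comp e (FibCat.fpFst G (subIncl 𝒳 Q))) = (AlgSp.yon S).map jZ :=
    sq.w.trans (Category.comp_id _)
  refine ⟨Z, jZ, hj, ?_, ?_, ?_⟩
  · rintro W ψ σ ⟨i⟩
    obtain ⟨s, hs⟩ := exists_section_of_lift he ψ σ i
    obtain ⟨l, hl⟩ := (AlgSp.yon S).map_surjective (s ≫ inv pZ)
    refine ⟨l, (AlgSp.yon S).map_injective ?_⟩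
    rw [Functor.map_comp, hl, Category.assoc, ← hpj, IsIso.inv_hom_id_assoc, hs]
  · rintro t ⟨p, hp⟩
    obtain ⟨w, hw, -⟩ := exists_points_fp hQ.2.1.isStack.1 h𝒳.isStack.1 (overCat_isFibGrpd U) (subIncl 𝒳 Q) G
      (ptOver t) p hp.symm
    obtain ⟨v, rfl⟩ := (bijective_map_of_isEquivOver he).2 w
    obtain ⟨v, rfl⟩ := (ptMap_bijective F.obj).2 v
    obtain ⟨q, rfl⟩ := AlgSp.Points.mk_surjective v
    obtain ⟨qz, hqz⟩ : ∃ qz, AlgSp.Points.map pZ qz = AlgSp.Points.mk q :=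
      ⟨AlgSp.Points.map (inv pZ) (AlgSp.Points.mk q), by
        rw [← AlgSp.Points.map_comp, IsIso.inv_hom_id, AlgSp.Points.map_id]⟩
    obtain ⟨z, rfl⟩ := (AlgSp.Points.schemeEquiv Z).surjective qz
    refine ⟨z, ?_⟩
    have h1 : overPt (Points.map (BasedFunctor.comp e (FibCat.fpFst G (subIncl 𝒳 Q))) (Points.mk (toFPt q))) = t := by
      rw [map_comp_apply]
      exact (congrArg overPt hw).trans (overPt_ptOver t)
    rw [overPt_map_spMapOfOver, ← hqz, ← AlgSp.Points.map_comp, hpj] at h1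
    rw [← h1]
    show jZ.left z = AlgSp.Points.toScheme U (AlgSp.Points.map _ (AlgSp.Points.ofScheme Z z))
    rw [← AlgSp.Points.ofPt_eq_map_ofScheme]
    exact (AlgSp.Points.toScheme_ofPt jZ z).symm
  · intro hiso a
    have : IsIso jZ := by
      have : IsIso ((Over.forget S).map jZ) := hiso
      exact isIso_of_reflects_iso jZ (Over.forget S)
    obtain ⟨y, ⟨i⟩⟩ := exists_lift_of_section e (𝟙 U) ((AlgSp.yon S).map (inv jZ) ≫ pZ) (by
      rw [Category.assoc, hpj, ← Functor.map_comp, IsIso.inv_hom_id])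
    let k : (overMap (𝟙 U)).obj a ≅ a := Over.isoMk (Iso.refl _) (by simp [overMap])
    exact hQ.1.of_iso ((appIso i a) ≪≫ G.toFunctor.mapIso k) (y.obj a).property

theorem forall_mem_of_reduced_chart (h𝒳 : IsAlgStack Scheme.fppfPrecoverage 𝒳)
    (hQ : IsClosedSubstack 𝒳 Q Scheme.fppfPrecoverage) {U : Over S} [IsReduced U.left]
    (G : FibCat.overCat U ⥤ᵇ 𝒳)
    (hG : ∀ t, Points.ofChart G t ∈ Set.range (Points.map (subIncl 𝒳 Q))) (a : (FibCat.overCat U).obj) :
    Q (G.obj a) := by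
  obtain ⟨Z, j, hj, -, hpts, hiso⟩ := exists_closed_subscheme h𝒳 hQ G
  exact hiso (Groth.L16.isIso_of_isClosedImmersion_surjective_reduced j.left fun t => hpts t (hG t)) a

theorem forall_mem_of_range_subset (h𝒳 : IsAlgStack Scheme.fppfPrecoverage 𝒳) {𝒴 : AlgSt.Cat S}
    (h𝒴 : IsAlgStack Scheme.fppfPrecoverage 𝒴) (hred : SmoothLocally (fun X => IsReduced X) 𝒴)
    (hQ : IsClosedSubstack 𝒳 Q Scheme.fppfPrecoverage) (f : 𝒴 ⥤ᵇ 𝒳)
    (hf : Set.range (Points.map f) ⊆ Set.range (Points.map (subIncl 𝒳 Q))) (η : 𝒴.obj) : Q (f.obj η) := by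
  obtain ⟨V, y, hy, hys⟩ := h𝒴.atlas
  have : IsReduced V.left := hred V y hy
  obtain ⟨G, φ, hφ⟩ := exists_overCat_functor (U := 𝒴.p.obj η) h𝒴.isStack.1 η rfl
  obtain ⟨W, ψ, ρ, hψ, ⟨i⟩, hsurj⟩ := exists_chart_square h𝒴.isStack.1 (x := G) hy
  have : Smooth ψ.left := hψ
  have : Surjective ψ.left := ⟨fun t => by
    obtain ⟨v, hv⟩ := surjective_ofChart_of_repWith h𝒴.isStack.1 hys (Points.ofChart G t)
    obtain ⟨w, hw, -⟩ := hsurj t v hv.symm
    exact ⟨w, hw⟩⟩
  have hV : ∀ a, Q ((BasedFunctor.comp y f).obj a) := forall_mem_of_reduced_chart h𝒳 hQ _ fun t => by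
    rw [map_comp_ofChart]
    exact hf ⟨_, rfl⟩
  let σ : FibCat.overCat W ⥤ᵇ fullSub 𝒳 Q :=
    { toFunctor := ObjectProperty.lift _ (BasedFunctor.comp (overMap ρ) (BasedFunctor.comp y f)).toFunctor
        fun a => hV _
      w := (BasedFunctor.comp (overMap ρ) (BasedFunctor.comp y f)).w }
  obtain ⟨Z, j, hj, hlift, -, hiso⟩ := exists_closed_subscheme h𝒳 hQ (BasedFunctor.comp G f)
  obtain ⟨l, hl⟩ := hlift W ψ σ ⟨(whiskerR i f).symm⟩
  have hl' : l.left ≫ j.left = ψ.left := congrArg CommaMorphism.left hl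
  exact hQ.1.of_iso (f.toFunctor.mapIso φ)
    (hiso (isIso_of_flat_surjective_factor j.left l.left ψ.left hl') _)

end Groth.L09.Stack
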